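import Cfsg.Agent.Lib.J4Rep.Check
import Cfsg.Agent.Lib.Presented.Word
import Cfsg.Prelude.Def_Spor_J4
import Mathlib.GroupTheory.PresentedGroup
import Mathlib.Data.Nat.Bitwise

/-!
A faithful-looking action of the presented fourth Janko group on binary vectors of length 112; in
particular the images of the generators are not trivial.
-/
set_option autoImplicit false
set_option maxRecDepth 20000

namespace CfsgLib.J4Rep

open CfsgLib.Presented

/-- binary vectors of length 112 -/
abbrev Vec112 : Type := {v : ℕ // v < 2 ^ 112}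

theorem applyN_zero (T : ATree ℕ) (v : ℕ) : applyN T v 0 = 0 := rfl

theorem applyN_succ (T : ATree ℕ) (v n : ℕ) :
    applyN T v (n + 1) = if v.testBit n then applyN T v n ^^^ T.get n else applyN T v n := by
  show Bool.rec (motive := fun _ => ℕ) (applyN T v n) (Nat.xor (applyN T v n) (T.get n))
    (Nat.beq (Nat.mod (Nat.shiftRight v n) 2) 1) = _
  have h : Nat.beq (Nat.mod (Nat.shiftRight v n) 2) 1 = v.testBit n := by
    rw [Nat.testBit_eq_decide_div_mod_eq, ← Nat.shiftRight_eq_div_pow]
    show Nat.beq ((v >>> n) % 2) 1 = _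
    cases hb : Nat.beq ((v >>> n) % 2) 1
    · symm
      rw [decide_eq_false_iff_not]
      exact fun e => by rw [e] at hb; exact absurd hb (by decide)
    · rw [Nat.eq_of_beq_eq_true hb]; rfl
  rw [h]
  cases v.testBit n <;> rfl

theorem applyN_xor (T : ATree ℕ) (v w : ℕ) : ∀ n, applyN T (v ^^^ w) n = applyN T v n ^^^ applyN T w n
  | 0 => by simp [applyN_zero]
  | n + 1 => by
    rw [applyN_succ, applyN_succ, applyN_succ, Nat.testBit_xor, applyN_xor T v w n]
    cases v.testBit n <;> cases w.testBit n <;>
      simp [Nat.xor_assoc, Nat.xor_comm, Nat.xor_left_comm]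

theorem applyN_lt (T : ATree ℕ) (v : ℕ) : ∀ n, (∀ i < n, T.get i < 2 ^ 112) → applyN T v n < 2 ^ 112
  | 0, _ => by rw [applyN_zero]; exact Nat.two_pow_pos _
  | n + 1, h => by
    rw [applyN_succ]
    split
    · exact Nat.xor_lt_two_pow (applyN_lt T v n fun i hi => h i (Nat.lt_succ_of_lt hi)) (h n (Nat.lt_succ_self n))
    · exact applyN_lt T v n fun i hi => h i (Nat.lt_succ_of_lt hi)

theorem act_xor (x v w : ℕ) : act x (v ^^^ w) = act x v ^^^ act x w := applyN_xor _ _ _ _

theorem act_lt {x : ℕ} (hx : x < 4) (v : ℕ) : act x v < 2 ^ 112 := by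
  refine applyN_lt _ _ _ fun i hi => ?_
  have h := bound_ok
  simp only [List.all_eq_true, List.mem_range, Nat.blt_eq] at h
  exact h i hi x (by
    simp only [List.mem_cons, List.not_mem_nil, or_false]
    omega)

theorem runW_cons (x : ℕ) (w : List ℕ) (v : ℕ) : runW (x :: w) v = runW w (act x v) := by
  rw [runW, Vec.force_eq]

theorem runW_xor : ∀ (w : List ℕ) (u v : ℕ), runW w (u ^^^ v) = runW w u ^^^ runW w v
  | [], _, _ => rfl
  | x :: w, u, v => by rw [runW_cons, runW_cons, runW_cons, act_xor, runW_xor w]

theorem runW_zero : ∀ w : List ℕ, runW w 0 = 0 := fun w => by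
  have h := runW_xor w 0 0
  simpa using h

theorem runW_fix {w : List ℕ} (h : fixesBasis w = true) :
    ∀ n ≤ 112, ∀ v < 2 ^ n, runW w v = v
  | 0, _, v, hv => by
    rw [pow_zero, Nat.lt_one_iff] at hv
    subst hv
    exact runW_zero w
  | n + 1, hn, v, hv => by
    by_cases hb : v < 2 ^ n
    · exact runW_fix h n (by omega) v hb
    · have hlt : v - 2 ^ n < 2 ^ n := by rw [pow_succ] at hv; omega
      have e : v = 2 ^ n ^^^ (v - 2 ^ n) := by
        have h1 : 2 ^ n + (v - 2 ^ n) = v := by omega
        have h2 : 2 ^ n + (v - 2 ^ n) = 2 ^ n ||| (v - 2 ^ n) := by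
          have := Nat.two_pow_add_eq_or_of_lt hlt 1
          simpa using this
        apply Nat.eq_of_testBit_eq
        intro i
        rw [Nat.testBit_xor]
        have h3 : v.testBit i = (2 ^ n ||| (v - 2 ^ n)).testBit i := by rw [← h2, h1]
        rw [h3, Nat.testBit_or, Nat.testBit_two_pow]
        by_cases hi : n = i
        · subst hi
          simp [Nat.testBit_lt_two_pow hlt]
        · simp [hi]
      have hbase : runW w (2 ^ n) = 2 ^ n := by
        simp only [fixesBasis, List.all_eq_true, List.mem_range] at h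
        exact Nat.eq_of_beq_eq_true (h n (by omega))
      conv_lhs => rw [e]
      rw [runW_xor, hbase, runW_fix h n (by omega) _ hlt, ← e]

theorem runW_fix' {w : List ℕ} (h : fixesBasis w = true) (v : Vec112) : runW w v.1 = v.1 :=
  runW_fix h 112 le_rfl _ v.2

theorem inv_fix {w : List ℕ} (hw : w ∈ [[0, 0], [1, 2], [2, 1], [3, 3]]) : fixesBasis w = true :=
  List.all_eq_true.1 inv_ok w hw

/-- the permutation given by a letter and its inverse letter -/
noncomputable def letterPerm (x x' : ℕ) (hx : x < 4) (hx' : x' < 4) (h : fixesBasis [x, x'] = true)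
    (h' : fixesBasis [x', x] = true) : Equiv.Perm Vec112 where
  toFun v := ⟨act x v.1, act_lt hx _⟩
  invFun v := ⟨act x' v.1, act_lt hx' _⟩
  left_inv v := Subtype.ext (by
    have := runW_fix' h v
    rw [runW_cons, runW_cons] at this
    exact this)
  right_inv v := Subtype.ext (by
    have := runW_fix' h' v
    rw [runW_cons, runW_cons] at this
    exact this)

/-- the value of `x` -/
noncomputable def permX : Equiv.Perm Vec112 :=
  letterPerm 0 0 (by norm_num) (by norm_num) (inv_fix (by decide)) (inv_fix (by decide))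
/-- the value of `y` -/
noncomputable def permY : Equiv.Perm Vec112 :=
  letterPerm 1 2 (by norm_num) (by norm_num) (inv_fix (by decide)) (inv_fix (by decide))
/-- the value of `t` -/
noncomputable def permT : Equiv.Perm Vec112 :=
  letterPerm 3 3 (by norm_num) (by norm_num) (inv_fix (by decide)) (inv_fix (by decide))

/-- the values of the letters -/
def ev4 {G : Type*} [Group G] (a b c : G) : ℕ → G
  | 0 => a
  | 1 => b
  | 2 => b⁻¹
  | _ => c

theorem apply_letter {x : ℕ} (hx : x < 4) (v : Vec112) :
    (ev4 permX permY permT x v).1 = act x v.1 := by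
  obtain rfl | rfl | rfl | rfl : x = 0 ∨ x = 1 ∨ x = 2 ∨ x = 3 := by omega
  all_goals rfl

theorem apply_word : ∀ (w : List ℕ), (∀ x ∈ w, x < 4) → ∀ v : Vec112,
    (evW (ev4 permX permY permT) w v).1 = runW w.reverse v.1
  | [], _, v => rfl
  | x :: w, h, v => by
    rw [evW_cons, Equiv.Perm.mul_apply, apply_letter (h x List.mem_cons_self),
      apply_word w (fun y hy => h y (List.mem_cons_of_mem _ hy)) v, List.reverse_cons]
    generalize w.reverse = u
    generalize v.1 = n
    induction u generalizing n with
    | nil => rw [List.nil_append, runW_cons]; rfl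
    | cons z u ih => rw [List.cons_append, runW_cons, runW_cons, ih]

theorem evW_relWords {w : List ℕ} (hw : w ∈ relWords) : evW (ev4 permX permY permT) w = 1 := by
  have hl : (relWords.all fun w => w.all fun x => Nat.blt x 4) = true := by decide +kernel
  simp only [List.all_eq_true, Nat.blt_eq] at hl
  refine Equiv.ext fun v => Subtype.ext ?_
  rw [apply_word w (hl w hw)]
  exact runW_fix' (List.all_eq_true.1 rels_ok w hw) v

open Cfsg.Spor in
/-- the images of the generators -/
noncomputable def genPerm : J4.Gen → Equiv.Perm Vec112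
  | .x => permX
  | .y => permY
  | .t => permT

open Cfsg.Spor in
theorem lift_extra : ∀ r ∈ J4.extra, FreeGroup.lift genPerm r = 1 := by
  have hX : permX⁻¹ = permX := rfl
  have hT : permT⁻¹ = permT := rfl
  have h := fun i (hi : i < relWords.length) => evW_relWords (List.getElem_mem hi)
  intro r hr
  simp only [J4.extra, List.mem_cons, List.not_mem_nil, or_false] at hr
  rcases hr with rfl | rfl | rfl | rfl | rfl | rfl | rfl | rfl | rfl | rfl | rfl | rfl
  · simpa [relWords, evW, ev4, genPerm, hX, hT, pow_succ, mul_assoc] using h 0 (by decide)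
  · simpa [relWords, evW, ev4, genPerm, hX, hT, pow_succ, mul_assoc] using h 1 (by decide)
  · simpa [relWords, evW, ev4, genPerm, hX, hT, pow_succ, mul_assoc] using h 2 (by decide)
  · simpa [relWords, evW, ev4, genPerm, hX, hT, pow_succ, mul_assoc] using h 3 (by decide)
  · simpa [relWords, evW, ev4, genPerm, hX, hT, pow_succ, mul_assoc, mul_inv_rev] using h 4 (by decide)
  · simpa [relWords, evW, ev4, genPerm, hX, hT, pow_succ, mul_assoc] using h 5 (by decide)
  · simpa [relWords, evW, ev4, genPerm, hX, hT, pow_succ, mul_assoc] using h 6 (by decide)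
  · simpa [relWords, evW, ev4, genPerm, hX, hT, pow_succ, mul_assoc] using h 7 (by decide)
  · simpa [relWords, evW, ev4, genPerm, hX, hT, pow_succ, mul_assoc, mul_inv_rev] using h 8 (by decide)
  · simpa [relWords, evW, ev4, genPerm, hX, hT, pow_succ, mul_assoc] using h 9 (by decide)
  · simpa [relWords, evW, ev4, genPerm, hX, hT, pow_succ, mul_assoc, mul_inv_rev] using h 10 (by decide)
  · simpa [relWords, evW, ev4, genPerm, hX, hT, pow_succ, mul_assoc, mul_inv_rev] using h 11 (by decide)

open Cfsg.Spor in
theorem lift_rels : ∀ r ∈ coxRelators J4.edges ∪ {r | r ∈ J4.extra}, FreeGroup.lift genPerm r = 1 := by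
  rintro r (hr | hr)
  · obtain ⟨a, ha, -⟩ := hr
    simp [coxNodes, J4.edges] at ha
  · exact lift_extra r hr

open Cfsg.Spor in
/-- the action -/
noncomputable def rep : J4 →* Equiv.Perm Vec112 := PresentedGroup.toGroup lift_rels

theorem permX_ne_one : permX ≠ 1 := by
  intro h
  refine x_moves ?_
  simp only [fixesBasis, List.all_eq_true, List.mem_range]
  intro i hi
  have := congrArg (fun p : Equiv.Perm Vec112 => (p ⟨2 ^ i, Nat.pow_lt_pow_right (by norm_num) hi⟩).1) h
  have h2 : act 0 (2 ^ i) = 2 ^ i := this
  rw [runW_cons, runW, h2]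
  exact Nat.beq_refl _

end CfsgLib.J4Rep
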