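import Cfsg.Agent.Lib.J4Rep.Data
import Cfsg.Agent.Lib.Presented.Vec

/-!
Kernel checks on the 112-dimensional binary matrices for the presented fourth Janko group.
-/
set_option autoImplicit false
set_option maxRecDepth 20000

namespace CfsgLib.J4Rep

open CfsgLib.Presented

/-- the combination of the first `n` rows selected by the bits of `v` -/
noncomputable def applyN (T : ATree ℕ) (v : ℕ) : ℕ → ℕ :=
  Nat.rec (motive := fun _ => ℕ) 0 fun i ih =>
    Bool.rec (motive := fun _ => ℕ) ih (Nat.xor ih (T.get i)) (Nat.beq (Nat.mod (Nat.shiftRight v i) 2) 1)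

/-- the table of a letter -/
noncomputable def tab : ℕ → ATree ℕ
  | 0 => tabX
  | 1 => tabYi
  | 2 => tabY
  | _ => tabT

/-- the action of a letter -/
noncomputable def act (x v : ℕ) : ℕ := applyN (tab x) v 112

/-- apply the letters of a list, head first -/
noncomputable def runW : List ℕ → ℕ → ℕ
  | [], v => v
  | x :: w, v => Vec.force v fun u => runW w (act x u)

/-- a word fixes all basis vectors -/
noncomputable def fixesBasis (w : List ℕ) : Bool :=
  (List.range 112).all fun i => Nat.beq (runW w (2 ^ i)) (2 ^ i)

theorem inv_ok : ([[0, 0], [1, 2], [2, 1], [3, 3]].all fixesBasis) = true := by decide +kernel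

theorem bound_ok : ((List.range 112).all fun i =>
    ([0, 1, 2, 3].all fun x => Nat.blt ((tab x).get i) (2 ^ 112))) = true := by decide +kernel

theorem rels_ok : (relWords.all fun w => fixesBasis w.reverse) = true := by decide +kernel

theorem x_moves : ¬ fixesBasis [0] = true := by decide +kernel

end CfsgLib.J4Rep
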